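import Mathlib
import Cfsg.Prelude.Def_Blocks
import Cfsg.Agent.Lib.Helper78.BlockOrth
import Cfsg.Agent.Lib.Helper77.Defect
import Cfsg.Agent.Lib.Helper3.BurnsidePQ
import Cfsg.Agent.S0165
import Cfsg.Agent.S1283
import Cfsg.Agent.S4354

/-!
# Kazarin's theorem

If the conjugacy class of `x` has prime power size `p ^ k`, then the normal closure of `x`
is solvable.

Proof.  Reduce to `x` of prime power order (say a `q`-element) with `G = ⟨x^G⟩`.  For a prime
`r ∉ {p, q}` dividing `|G|`, look at the principal `r`-block `B₀`.  For `χ ∈ B₀` the central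
character congruence gives `p^k χ(x)/χ(1) ≡ p^k (mod M)`, so `χ(x) ≠ 0`; if moreover
`p ∤ χ(1)`, Burnside's argument shows `x` acts as a scalar `ω`, `ω ≡ 1 (mod M)`, and `ω` is a
root of unity of order prime to `r`, so `ω = 1`, `x` (hence `G = ⟨x^G⟩`) is in the kernel and
`χ = 1`.  Block orthogonality `∑_{χ ∈ B₀} χ(1) χ(g⁻¹) = 0` for `g` of order `r` then reads
`1 + p β = 0` with `β` an algebraic integer: contradiction.  So `|G| = p^a q^b` and Burnside's
`p^a q^b` theorem applies.
-/

set_option autoImplicit false

namespace Cfsg.Agent.Lib.Helper72.Kazarin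

open Cfsg Cfsg.Agent.Lib.Helper16 Cfsg.Agent.Lib.Helper77 Cfsg.Agent.Lib.Helper3
open scoped ComplexConjugate

universe u

/-- A root of unity congruent to `1` modulo `M`, of order prime to the residue characteristic,
equals `1`. -/
theorem eq_one_of_memLocalIdeal {r : ℕ} {M : Ideal Cfsg.AlgInt} (hM : Cfsg.IsPModular r M)
    (ω : ℂ) (n : ℕ) (hn : 0 < n) (hω : ω ^ n = 1) (hrn : ¬ r ∣ n)
    (h : MemLocalIdeal M (1 - ω)) : ω = 1 := by
  by_contra hne
  have hPr := isPrime_of_isPModular hM
  have hint : IsIntegral ℤ ω :=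
    (show IsIntegral ℤ (ω ^ n) by rw [hω]; exact isIntegral_one).of_pow hn
  have hR : MemLocalRing M ω := memLocalRing_of_algInt hPr ⟨ω, hint⟩
  have hgeo : ∑ i ∈ Finset.range n, ω ^ i = 0 := by
    have h1 := geom_sum_mul ω n
    rw [hω, sub_self] at h1
    rcases mul_eq_zero.mp h1 with h2 | h2
    · exact h2
    · exact absurd (sub_eq_zero.mp h2) hne
  have hi : ∀ i : ℕ, MemLocalIdeal M (1 - ω ^ i) := by
    intro i
    induction i with
    | zero => simpa using memLocalIdeal_zero hPr
    | succ i ih =>
      have e : 1 - ω ^ (i + 1) = (1 - ω ^ i) + ω ^ i * (1 - ω) := by ring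
      rw [e]
      exact memLocalIdeal_add hPr ih
        (memLocalIdeal_mul_left hPr (memLocalRing_pow hPr hR i) h)
  have hmem : MemLocalIdeal M (n : ℂ) := by
    have e : (n : ℂ) = ∑ i ∈ Finset.range n, (1 - ω ^ i) := by
      rw [Finset.sum_sub_distrib, hgeo]
      simp
    rw [e]
    exact memLocalIdeal_sum hPr _ _ (fun i _ => hi i)
  exact hrn ((memLocalIdeal_natCast_iff hM n).mp hmem)

/-- **Core of Kazarin's theorem.**  If the class of `x` has size `p ^ k` and `G` is the normal
closure of `x`, then no prime `r ≠ p` that is prime to the order of `x` divides `|G|`. -/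
theorem not_dvd_card {G : Type u} [Group G] [Finite G] (x : G) (p k : ℕ) (hp : p.Prime)
    (hcl : (Subgroup.centralizer ({x} : Set G)).index = p ^ k)
    (hgen : Subgroup.normalClosure ({x} : Set G) = ⊤)
    (r : ℕ) (hr : r.Prime) (hrp : r ≠ p) (hrx : ¬ r ∣ orderOf x) : ¬ r ∣ Nat.card G := by
  classical
  intro hdvd
  have := Fintype.ofFinite G
  have hfin : Finite (Cfsg.IrrCharacter G) := inferInstance
  have := Fintype.ofFinite (Cfsg.IrrCharacter G)
  have : Fact r.Prime := ⟨hr⟩
  obtain ⟨g, hg⟩ := exists_prime_orderOf_dvd_card' r hdvd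
  obtain ⟨M, hMmax, hMr⟩ := Cfsg.Agent.S0165.exists_maximal_ideal_natCast_mem r hr.one_lt
  have hM : Cfsg.IsPModular r M := ⟨hr, hMmax, hMr⟩
  have hPr := isPrime_of_isPModular hM
  have horth := Cfsg.Agent.Lib.Helper78.block_orth_regular_singular hM (Cfsg.principalBlock M G)
    (isPBlock_principalBlock M) (u := (1 : G)) (g := g)
    (by rw [orderOf_one]; exact hr.not_dvd_one) (by rw [hg])
  rw [finsum_mem_eq_sum_ite] at horth
  have hrpk : ¬ r ∣ p ^ k := fun h =>
    hrp ((Nat.prime_dvd_prime_iff_eq hr hp).mp (hr.dvd_of_dvd_pow h))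
  have key : ∀ χ : Cfsg.IrrCharacter G, χ ∈ Cfsg.principalBlock M G → χ ≠ trivIrr G →
      ∃ β : ℂ, IsIntegral ℤ β ∧ (χ : G → ℂ) 1 * (χ : G → ℂ) g⁻¹ = p * β := by
    intro χ hχB hχ1
    obtain ⟨n, ρ, hρ, hχ⟩ := χ.2
    have hdeg : (χ : G → ℂ) 1 = n := by rw [← hχ, Representation.char_one]; simp
    by_cases hpn : p ∣ n
    · obtain ⟨m, rfl⟩ := hpn
      refine ⟨m * (χ : G → ℂ) g⁻¹, ?_, ?_⟩
      · rw [← hχ]
        have hq : IsIntegral ℤ (m : ℂ) := by
          have h := isIntegral_algebraMap (R := ℤ) (A := ℂ) (x := (m : ℤ))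
          simpa using h
        exact IsIntegral.mul hq (Cfsg.Agent.S0140.result ρ g⁻¹)
      · rw [hdeg]; push_cast; ring
    · exfalso
      have hcop : Nat.Coprime (Module.finrank ℂ (Fin n → ℂ))
          (Subgroup.centralizer ({x} : Set G)).index := by
        rw [hcl, Module.finrank_fin_fun]
        exact Nat.Coprime.pow_right k ((Nat.Prime.coprime_iff_not_dvd hp).mpr hpn).symm
      have hnt : Nontrivial (Fin n → ℂ) := nontrivial_of_isIrreducible ρ
      have hn0 : (n : ℂ) ≠ 0 := by
        have : 0 < Module.finrank ℂ (Fin n → ℂ) := Module.finrank_pos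
        rw [Module.finrank_fin_fun] at this
        exact_mod_cast this.ne'
      have hsb : MemLocalIdeal M (Cfsg.centralChar (fun _ : G => (1 : ℂ)) x -
          Cfsg.centralChar (χ : G → ℂ) x) := hχB x
      have hcc : Cfsg.centralChar (fun _ : G => (1 : ℂ)) x - Cfsg.centralChar (χ : G → ℂ) x =
          ((p ^ k : ℕ) : ℂ) * (1 - (χ : G → ℂ) x / n) := by
        unfold Cfsg.centralChar
        rw [hcl, hdeg]
        field_simp
      rw [hcc] at hsb
      rcases Cfsg.Agent.S0142.result ρ x hcop with h0 | h1
      · rw [← hχ, h0] at hsb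
        simp only [zero_div, sub_zero, mul_one] at hsb
        exact hrpk ((memLocalIdeal_natCast_iff hM (p ^ k)).mp hsb)
      · obtain ⟨ω, hω⟩ := (norm_character_eq_iff ρ x).mp h1
        have hχx : (χ : G → ℂ) x = n * ω := by
          rw [← hχ, Representation.character, hω, map_smul, LinearMap.trace_id,
            Module.finrank_fin_fun]
          simp [mul_comm]
        have hωpow : ω ^ orderOf x = 1 := by
          have h1 : ρ (x ^ orderOf x) = (ω ^ orderOf x) • LinearMap.id := by
            rw [map_pow, hω]
            ext v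
            simp [smul_pow]
          rw [pow_orderOf_eq_one, map_one] at h1
          obtain ⟨v, hv⟩ := exists_ne (0 : Fin n → ℂ)
          have h2 := congrArg (fun f : (Fin n → ℂ) →ₗ[ℂ] (Fin n → ℂ) => f v) h1
          simp only [Module.End.one_apply, LinearMap.smul_apply, LinearMap.id_apply] at h2
          have h3 : (1 - ω ^ orderOf x) • v = 0 := by
            rw [sub_smul, one_smul, ← h2, sub_self]
          rcases smul_eq_zero.mp h3 with h4 | h4
          · exact (sub_eq_zero.mp h4).symm
          · exact absurd h4 hv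
        have hmem : MemLocalIdeal M (1 - ω) := by
          rw [hχx] at hsb
          have e : (n : ℂ) * ω / n = ω := by field_simp
          rw [e] at hsb
          exact memLocalIdeal_of_natCast_mul hM hrpk hsb
        have hω1 : ω = 1 :=
          eq_one_of_memLocalIdeal hM ω (orderOf x) (orderOf_pos x) hωpow hrx hmem
        have hx1 : ρ x = LinearMap.id := by rw [hω, hω1, one_smul]
        have hker : ∀ y : G, ρ y = LinearMap.id := by
          have hxk : x ∈ ρ.asGroupHom.ker := by
            rw [MonoidHom.mem_ker]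
            apply Units.ext
            rw [Representation.asGroupHom_apply, hx1]
            rfl
          have hle : Subgroup.normalClosure ({x} : Set G) ≤ ρ.asGroupHom.ker :=
            Subgroup.normalClosure_le_normal (by simpa using hxk)
          intro y
          have hy : y ∈ ρ.asGroupHom.ker := hle (hgen ▸ Subgroup.mem_top y)
          rw [MonoidHom.mem_ker] at hy
          rw [← Representation.asGroupHom_apply, hy]
          rfl
        have h1 := character_eq_one_of_trivial ρ hker
        apply hχ1
        apply Subtype.ext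
        rw [← hχ, h1]
        rfl
  choose! β hβint hβeq using key
  have hsum : (∑ a : Cfsg.IrrCharacter G, if a ∈ Cfsg.principalBlock M G then
      (a : G → ℂ) 1 * (a : G → ℂ) g⁻¹ else 0) = 1 + p * ∑ χ ∈ Finset.univ.erase (trivIrr G),
      (if χ ∈ Cfsg.principalBlock M G then β χ else 0) := by
    rw [← Finset.add_sum_erase _ _ (Finset.mem_univ (trivIrr G)), Finset.mul_sum]
    congr 1
    · rw [if_pos (trivIrr_mem_principalBlock hPr)]
      simp [trivIrr_apply]
    · refine Finset.sum_congr rfl (fun χ hχ => ?_)
      split_ifs with hB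
      · exact hβeq χ hB (Finset.ne_of_mem_erase hχ)
      · simp
  rw [horth] at hsum
  have hint : IsIntegral ℤ (∑ χ ∈ Finset.univ.erase (trivIrr G),
      (if χ ∈ Cfsg.principalBlock M G then β χ else 0)) := by
    refine IsIntegral.sum _ (fun χ hχ => ?_)
    split_ifs with hB
    · exact hβint χ hB (Finset.ne_of_mem_erase hχ)
    · exact isIntegral_zero
  have hdvd1 : (p : ℤ) ∣ (-1 : ℤ) := by
    apply int_dvd_of_isIntegral (-1) p hp.ne_zero _ hint
    push_cast
    linear_combination hsum
  have hdvd2 : (p : ℤ) ∣ 1 := (dvd_neg).mp hdvd1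
  have : p ∣ 1 := by exact_mod_cast hdvd2
  exact hp.one_lt.ne' (Nat.dvd_one.mp this)

/-- A finite group has a largest solvable normal subgroup. -/
theorem exists_max_solvable_normal (H : Type u) [Group H] [Finite H] :
    ∃ R : Subgroup H, R.Normal ∧ Group.IsSolvable R ∧
      ∀ T : Subgroup H, T.Normal → Group.IsSolvable T → T ≤ R := by
  obtain ⟨R, -, hmax⟩ := Finite.exists_le_maximal
    (p := fun K : Subgroup H => K.Normal ∧ Group.IsSolvable K) (a := ⊥)
    ⟨inferInstance, inferInstance⟩
  refine ⟨R, hmax.prop.1, hmax.prop.2, fun T hT hTs => ?_⟩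
  have hRn := hmax.prop.1
  have hRs := hmax.prop.2
  have h1 : (R ⊔ T).Normal := inferInstance
  have h2 : Group.IsSolvable ↥(R ⊔ T) :=
    Cfsg.Agent.S1283.isSolvable_sup R T
      (by rw [Subgroup.normalizer_eq_top]; exact le_top) hTs hRs
  exact le_sup_right.trans (hmax.le_of_ge ⟨h1, h2⟩ le_sup_left)

/-- A positive number all of whose prime divisors are `p` or `q` is `p ^ a * q ^ b`. -/
theorem eq_pow_mul_pow {n p q : ℕ} (hn : n ≠ 0) (hp : p.Prime) (hq : q.Prime)
    (h : ∀ r : ℕ, r.Prime → r ∣ n → r = p ∨ r = q) : ∃ a b : ℕ, n = p ^ a * q ^ b := by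
  obtain ⟨a, m, hpm, rfl⟩ := Nat.exists_eq_pow_mul_and_not_dvd hn p hp.ne_one
  have hm : m ≠ 0 := by rintro rfl; simp at hn
  obtain ⟨b, m', hqm, rfl⟩ := Nat.exists_eq_pow_mul_and_not_dvd hm q hq.ne_one
  have hm' : m' = 1 := by
    by_contra hne
    obtain ⟨r, hr, hrm⟩ := Nat.exists_prime_and_dvd hne
    rcases h r hr (dvd_mul_of_dvd_right (dvd_mul_of_dvd_right hrm _) _) with rfl | rfl
    · exact hpm (dvd_mul_of_dvd_right hrm _)
    · exact hqm hrm
  exact ⟨a, b, by rw [hm', mul_one]⟩

/-- centralizer of an element of a subgroup, computed in the subgroup -/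
theorem centralizer_subtype {G : Type u} [Group G] (N : Subgroup G) (y : N) :
    Subgroup.centralizer ({y} : Set N) =
      (Subgroup.centralizer ({(y : G)} : Set G)).subgroupOf N := by
  ext z
  rw [Subgroup.mem_subgroupOf, Subgroup.mem_centralizer_iff, Subgroup.mem_centralizer_iff]
  constructor
  · intro hz w hw
    rw [Set.mem_singleton_iff] at hw
    subst hw
    exact congrArg Subtype.val (hz y rfl)
  · intro hz w hw
    rw [Set.mem_singleton_iff] at hw
    subst hw
    exact Subtype.ext (hz (w : G) rfl)

/-- the class size of a power divides the class size -/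
theorem index_centralizer_pow {G : Type u} [Group G] [Finite G] (x : G) {p k : ℕ} (hp : p.Prime)
    (hcl : (Subgroup.centralizer ({x} : Set G)).index = p ^ k) (j : ℕ) :
    ∃ k' : ℕ, (Subgroup.centralizer ({x ^ j} : Set G)).index = p ^ k' := by
  have hle : Subgroup.centralizer ({x} : Set G) ≤ Subgroup.centralizer ({x ^ j} : Set G) := by
    intro c hc
    rw [Subgroup.mem_centralizer_iff] at hc ⊢
    intro y hy
    rw [Set.mem_singleton_iff] at hy
    subst hy
    have h1 : Commute x c := hc x rfl
    exact (h1.pow_left j).eq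
  have hd := Subgroup.index_dvd_of_le hle
  rw [hcl] at hd
  obtain ⟨k', -, hk'⟩ := (Nat.dvd_prime_pow hp).mp hd
  exact ⟨k', hk'⟩

/-- **Kazarin's theorem**, inductive form. -/
theorem kazarin_aux (n : ℕ) : ∀ (G : Type u) [Group G] [Finite G], Nat.card G = n →
    ∀ (m : ℕ) (x : G) (p k : ℕ), orderOf x = m → p.Prime →
      (Subgroup.centralizer ({x} : Set G)).index = p ^ k →
      Group.IsSolvable ↥(Subgroup.normalClosure ({x} : Set G)) := by
  induction n using Nat.strong_induction_on with
  | _ n ihn =>
    intro G _ _ hn m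
    induction m using Nat.strong_induction_on with
    | _ m ihm =>
      intro x p k hm hp hcl
      obtain ⟨R, hRn, hRs, hRmax⟩ := exists_max_solvable_normal G
      by_cases htop : Subgroup.normalClosure ({x} : Set G) = ⊤
      · by_cases hpp : ∃ (q : ℕ) (e : ℕ), q.Prime ∧ m = q ^ e
        · obtain ⟨q, e, hq, rfl⟩ := hpp
          have hpr : ∀ r : ℕ, r.Prime → r ∣ Nat.card G → r = p ∨ r = q := by
            intro r hr hdvd
            by_contra hcon
            push Not at hcon
            refine not_dvd_card x p k hp hcl htop r hr hcon.1 ?_ hdvd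
            rw [hm]
            intro h
            exact hcon.2 ((Nat.prime_dvd_prime_iff_eq hr hq).mp (hr.dvd_of_dvd_pow h))
          obtain ⟨a, b, hab⟩ := eq_pow_mul_pow (Nat.card_pos.ne') hp hq hpr
          have hG : Group.IsSolvable G := burnside_paqb _ G p q a b hp hq rfl hab
          infer_instance
        · have hm0 : m ≠ 0 := by rw [← hm]; exact (orderOf_pos x).ne'
          have hm1 : m ≠ 1 := by
            rintro rfl
            exact hpp ⟨2, 0, Nat.prime_two, rfl⟩
          have hq : (m.minFac).Prime := Nat.minFac_prime hm1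
          obtain ⟨e, b, hqb, hmeq⟩ :=
            Nat.exists_eq_pow_mul_and_not_dvd hm0 m.minFac hq.ne_one
          have hb1 : b ≠ 1 := by
            rintro rfl
            exact hpp ⟨m.minFac, e, hq, by rw [mul_one] at hmeq; exact hmeq⟩
          have he : e ≠ 0 := by
            rintro rfl
            apply hqb
            have h1 : m.minFac ∣ m := Nat.minFac_dvd m
            rw [pow_zero, one_mul] at hmeq
            rw [← hmeq]
            exact h1
          have hb0 : b ≠ 0 := by
            rintro rfl
            rw [mul_zero] at hmeq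
            exact hm0 hmeq
          obtain ⟨a, ha⟩ : ∃ a, a = m.minFac ^ e := ⟨_, rfl⟩
          rw [← ha] at hmeq
          have ha1 : 1 < a := by rw [ha]; exact Nat.one_lt_pow he hq.one_lt
          have hcop : Nat.Coprime a b := by
            rw [ha]
            exact Nat.Coprime.pow_left e ((Nat.Prime.coprime_iff_not_dvd hq).mpr hqb)
          have hb2 : 1 < b := by omega
          have hblt : b < m := by rw [hmeq]; nlinarith
          have halt : a < m := by rw [hmeq]; nlinarith
          have ho1 : orderOf (x ^ a) = b := by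
            rw [orderOf_pow' x (by omega : a ≠ 0), hm, hmeq,
              Nat.gcd_eq_right (Dvd.intro b rfl), Nat.mul_div_cancel_left b (by omega)]
          have ho2 : orderOf (x ^ b) = a := by
            rw [orderOf_pow' x hb0, hm, hmeq,
              Nat.gcd_eq_right (Dvd.intro_left a rfl), Nat.mul_div_cancel a (by omega)]
          obtain ⟨k1, hk1⟩ := index_centralizer_pow x hp hcl a
          obtain ⟨k2, hk2⟩ := index_centralizer_pow x hp hcl b
          have hs1 := ihm b hblt (x ^ a) p k1 ho1 hp hk1
          have hs2 := ihm a halt (x ^ b) p k2 ho2 hp hk2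
          have hxa : x ^ a ∈ R :=
            hRmax _ Subgroup.normalClosure_normal hs1 (Subgroup.subset_normalClosure rfl)
          have hxb : x ^ b ∈ R :=
            hRmax _ Subgroup.normalClosure_normal hs2 (Subgroup.subset_normalClosure rfl)
          have hxR : x ∈ R := by
            have hbez := Int.gcd_eq_gcd_ab a b
            rw [Int.gcd_natCast_natCast, Nat.Coprime.gcd_eq_one hcop] at hbez
            have hx : x = (x ^ a) ^ (Int.gcdA a b) * (x ^ b) ^ (Int.gcdB a b) := by
              rw [← zpow_natCast, ← zpow_natCast, ← zpow_mul, ← zpow_mul, ← zpow_add, ← hbez]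
              simp
            rw [hx]
            exact R.mul_mem (R.zpow_mem hxa _) (R.zpow_mem hxb _)
          have hle : Subgroup.normalClosure ({x} : Set G) ≤ R :=
            Subgroup.normalClosure_le_normal (by simpa using hxR)
          exact Cfsg.Agent.Lib.Helper1.isSolvable_of_le hle hRs
      · obtain ⟨N, hN⟩ : ∃ N, N = Subgroup.normalClosure ({x} : Set G) := ⟨_, rfl⟩
        rw [← hN] at htop ⊢
        have hNn : N.Normal := by rw [hN]; exact Subgroup.normalClosure_normal
        have hxN : x ∈ N := by rw [hN]; exact Subgroup.subset_normalClosure rfl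
        have hlt : Nat.card N < n := by
          rw [← hn]
          refine lt_of_le_of_ne (Subgroup.card_le_card_group N) ?_
          intro h
          exact htop (Subgroup.eq_top_of_card_eq N h)
        obtain ⟨RN, hRNn, hRNs, hRNmax⟩ := exists_max_solvable_normal N
        have hconj : ∀ (g : G) (hg : g * x * g⁻¹ ∈ N), (⟨g * x * g⁻¹, hg⟩ : N) ∈ RN := by
          intro g hg
          have hd : (Subgroup.centralizer ({(⟨g * x * g⁻¹, hg⟩ : N)} : Set N)).index ∣ p ^ k := by
            rw [centralizer_subtype, ← hcl, ← Cfsg.Agent.Lib.Helper77.index_centralizer_conj g x]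
            exact Cfsg.Agent.S4354.relIndex_dvd_index_normal _ N
          obtain ⟨k', -, hk'⟩ := (Nat.dvd_prime_pow hp).mp hd
          have hs := ihn (Nat.card N) hlt N rfl _ (⟨g * x * g⁻¹, hg⟩ : N) p k' rfl hp hk'
          exact hRNmax _ Subgroup.normalClosure_normal hs (Subgroup.subset_normalClosure rfl)
        have hRNtop : RN = ⊤ := by
          rw [eq_top_iff]
          intro z _
          have hle : N ≤ RN.map N.subtype := by
            refine hN.le.trans ?_
            rw [Subgroup.normalClosure, Subgroup.closure_le]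
            intro w hw
            obtain ⟨b, hb, hbw⟩ := Group.mem_conjugatesOfSet_iff.mp hw
            rw [Set.mem_singleton_iff] at hb
            subst hb
            obtain ⟨c, rfl⟩ := isConj_iff.mp hbw
            have hcN : c * b * c⁻¹ ∈ N := hNn.conj_mem b hxN c
            exact ⟨⟨c * b * c⁻¹, hcN⟩, hconj c hcN, rfl⟩
          obtain ⟨w, hw, hwz⟩ := hle z.2
          have : w = z := Subtype.ext hwz
          exact this ▸ hw
        rw [hRNtop] at hRNs
        exact Group.isSolvable_of_surjective
          (f := (Subgroup.topEquiv (G := N)).toMonoidHom) Subgroup.topEquiv.surjective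

/-- **Kazarin's theorem.**  If the class of `x` has prime power size, the normal closure of `x`
is solvable. -/
theorem kazarin {G : Type u} [Group G] [Finite G] (x : G) {p : ℕ} (hp : p.Prime) (k : ℕ)
    (hcl : (Subgroup.centralizer ({x} : Set G)).index = p ^ k) :
    Group.IsSolvable ↥(Subgroup.normalClosure ({x} : Set G)) :=
  kazarin_aux _ G rfl _ x p k rfl hp hcl

end Cfsg.Agent.Lib.Helper72.Kazarin
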