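import Mathlib
import Cfsg.Agent.S1393
import Cfsg.Agent.S1395
import Cfsg.Agent.S1396
import Cfsg.Agent.S1482
import Cfsg.Agent.S1457
import Cfsg.Agent.S1458
import Cfsg.Agent.S0023
import Cfsg.Agent.S0028
import Cfsg.Agent.S0044
import Cfsg.Agent.S0541
import Cfsg.Agent.Lib.Helper91.ThompsonFpf2
import Cfsg.Agent.Lib.Helper38.NPCMax
import Cfsg.Agent.Lib.Helper11.ThompsonSylow
import Cfsg.Agent.Lib.Helper23.BenderMax2
import Cfsg.Agent.Lib.Helper23.TransHyp
import Cfsg.Agent.Lib.Helper72.BG8U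

/-!
Bender–Glauberman Theorem 8.1: uniqueness subgroups from a large Fitting subgroup (helper72).
-/

set_option autoImplicit false

namespace Cfsg.Agent.Lib.Helper72.BG8

open Cfsg Cfsg.Agent.Lib.Helper23

universe u

section General

variable {G : Type u} [Group G] [Finite G]

theorem isPGroup_ne_top (hG : IsMinSimpleOddOrder G) {p : ℕ} [Fact p.Prime] {D : Subgroup G}
    (hD : IsPGroup p D) : D ≠ ⊤ := by
  rintro rfl
  obtain ⟨-, hsimple, hnc, -⟩ := hG
  have hnil : Group.IsNilpotent (⊤ : Subgroup G) := hD.isNilpotent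
  have hs : Group.IsSolvable (⊤ : Subgroup G) := by
    have := hnil
    infer_instance
  have hsG : Group.IsSolvable G :=
    Group.isSolvable_of_isSolvable_injective (f := (Subgroup.topEquiv (G := G)).symm.toMonoidHom)
      (Subgroup.topEquiv (G := G)).symm.injective
  exact hnc ⟨⟨IsSimpleGroup.comm_iff_isSolvable.mpr hsG⟩⟩

theorem normalizer_ne_top_of_isPGroup (hG : IsMinSimpleOddOrder G) {p : ℕ} [Fact p.Prime]
    {D : Subgroup G} (hD : IsPGroup p D) (hD1 : D ≠ ⊥) :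
    Subgroup.normalizer (D : Set G) ≠ ⊤ :=
  normalizer_ne_top_of_simple hG hD1 (isPGroup_ne_top hG hD)

theorem normalizer_eq_of_coatom_le (hG : IsMinSimpleOddOrder G) (M : Subgroup G)
    (hM : IsCoatom M) {T : Subgroup G} (hT1 : T ≠ ⊥) (hT2 : T ≠ ⊤)
    (hMT : M ≤ Subgroup.normalizer (T : Set G)) : Subgroup.normalizer (T : Set G) = M := by
  by_contra hne
  exact normalizer_ne_top_of_simple hG hT1 hT2 (hM.2 _ (lt_of_le_of_ne hMT (Ne.symm hne)))

theorem centerThompsonOf_le (p : ℕ) (S : Subgroup G) : centerThompsonOf p S ≤ S :=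
  inf_le_left.trans (Cfsg.Agent.Lib.Helper11.thompsonSubgroupOf_le p S)

theorem centerThompsonOf_ne_bot {p : ℕ} [Fact p.Prime] (S : Subgroup G) (hS : IsPGroup p S)
    (hne : S ≠ ⊥) : centerThompsonOf p S ≠ ⊥ := by
  unfold centerThompsonOf
  exact Cfsg.Agent.Lib.Helper91.inf_centralizer_ne_bot _
    (hS.to_le (Cfsg.Agent.Lib.Helper11.thompsonSubgroupOf_le p S))
    (Cfsg.Agent.Lib.Helper91.thompsonSubgroupOf_ne_bot S hS hne)

theorem normalizer_le_normalizer_centerThompsonOf (p : ℕ) (S : Subgroup G) :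
    Subgroup.normalizer (S : Set G) ≤ Subgroup.normalizer (centerThompsonOf p S : Set G) := by
  unfold centerThompsonOf
  have h1 := Cfsg.Agent.Lib.Helper11.normalizer_le_normalizer_thompsonSubgroupOf p S
  exact le_normalizer_inf h1 (h1.trans (normalizer_le_normalizer_centralizer _))

/-- `Z(J(S)) ⊴ X` for a solvable subgroup `X` of odd order with `O_{p'}(X) = 1`. -/
theorem le_normalizer_centerThompsonOf_of_core (X : Subgroup G) (hXs : Group.IsSolvable X)
    (hXodd : Odd (Nat.card X)) (p : ℕ) [Fact p.Prime] (S : Sylow p X)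
    (hO : Cfsg.pPrimeCore p ↥X = ⊥) :
    X ≤ Subgroup.normalizer (centerThompsonOf p ((S : Subgroup X).map X.subtype) : Set G) := by
  have := hXs
  have h1 := Cfsg.Agent.S1458.result (G := ↥X) hXodd p S
  rw [hO, sup_bot_eq] at h1
  rw [Cfsg.Agent.Lib.Helper38.NPCMax.centerThompsonOf_map p X.subtype X.subtype_injective]
  exact le_normalizer_map_subtype_of_normal _ h1

theorem pPrimeCore_eq_bot_of (X : Subgroup G) (p : ℕ) [Fact p.Prime]
    (h : ∀ Y : Subgroup G, Y ≤ X → X ≤ Subgroup.normalizer (Y : Set G) →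
      (Nat.card Y).Coprime p → Y = ⊥) : Cfsg.pPrimeCore p ↥X = ⊥ := by
  have h1 := h ((Cfsg.pPrimeCore p ↥X).map X.subtype) (Subgroup.map_subtype_le _)
    (le_normalizer_map_subtype_of_normal _ (Cfsg.Agent.Lib.Helper22.pPrimeCore_normal' p ↥X))
    (by
      rw [Subgroup.card_map_of_injective X.subtype_injective]
      exact Cfsg.Agent.Lib.Helper22.card_pPrimeCore_coprime p ↥X)
  exact (Subgroup.map_eq_bot_iff_of_injective _ X.subtype_injective).mp h1

theorem pPrimePCore_le_fitting {X : Type u} [Group X] [Finite X] (p : ℕ) [Fact p.Prime]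
    (hO : Cfsg.pPrimeCore p X = ⊥) : Cfsg.pPrimePCore p X ≤ Cfsg.fittingSubgroup X := by
  have hn : (Cfsg.pPrimePCore p X).Normal := by
    unfold Cfsg.pPrimePCore
    exact Subgroup.Normal.comap (Cfsg.Agent.Lib.Helper22.pCore_normal' p _) _
  have hp : IsPGroup p (Cfsg.pPrimePCore p X) := by
    intro x
    have hx : QuotientGroup.mk' (Cfsg.pPrimeCore p X) (x : X) ∈
        Cfsg.pCore p (X ⧸ Cfsg.pPrimeCore p X) := x.2
    obtain ⟨k, hk⟩ := (Cfsg.Agent.Lib.Helper22.pCore_isPGroup' p (X ⧸ Cfsg.pPrimeCore p X)) ⟨_, hx⟩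
    refine ⟨k, ?_⟩
    have hk' : (QuotientGroup.mk' (Cfsg.pPrimeCore p X) (x : X)) ^ p ^ k = 1 :=
      congrArg Subtype.val hk
    rw [← map_pow, QuotientGroup.mk'_apply, QuotientGroup.eq_one_iff, hO, Subgroup.mem_bot] at hk'
    exact Subtype.ext hk'
  exact le_sSup ⟨hn, hp.isNilpotent⟩

theorem le_fittingOf_of_normal_nilpotent (M D : Subgroup G) (hDM : D ≤ M)
    (hMD : M ≤ Subgroup.normalizer (D : Set G)) (hnil : Group.IsNilpotent D) :
    D ≤ fittingOf M := by
  have hn : (D.subgroupOf M).Normal := (Subgroup.normal_subgroupOf_iff_le_normalizer hDM).mpr hMD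
  have hnil' : Group.IsNilpotent (D.subgroupOf M) :=
    Group.nilpotent_of_mulEquiv (Subgroup.subgroupOfEquivOfLe hDM).symm
  have h1 : D.subgroupOf M ≤ Cfsg.fittingSubgroup ↥M := le_sSup ⟨hn, hnil'⟩
  intro d hd
  exact ⟨⟨d, hDM hd⟩, h1 (Subgroup.mem_subgroupOf.mpr hd), rfl⟩

/-- A normal `p`-subgroup lies in every Sylow `p`-subgroup. -/
theorem le_sylow_of_normal {X : Type u} [Group X] {p : ℕ} [Fact p.Prime] (P : Sylow p X)
    (N : Subgroup X) [N.Normal] (hN : IsPGroup p N) : N ≤ (P : Subgroup X) := by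
  have h1 : IsPGroup p (N ⊔ (P : Subgroup X) : Subgroup X) :=
    hN.to_sup_of_normal_left P.isPGroup'
  have h2 := P.is_maximal' h1 le_sup_right
  rw [← h2]
  exact le_sup_left

/-- If `N_G(S) ≤ X` for a Sylow `p`-subgroup `S` of `X`, then `S` is a Sylow `p`-subgroup of `G`. -/
theorem exists_sylow_eq_of_normalizer_le {p : ℕ} [Fact p.Prime] (X : Subgroup G) (S : Sylow p X)
    (h : Subgroup.normalizer (((S : Subgroup X).map X.subtype : Subgroup G) : Set G) ≤ X) :
    ∃ Q : Sylow p G, (Q : Subgroup G) = (S : Subgroup X).map X.subtype := by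
  obtain ⟨T, hT⟩ : ∃ T : Subgroup G, T = (S : Subgroup X).map X.subtype := ⟨_, rfl⟩
  rw [← hT] at h ⊢
  have hTp : IsPGroup p T := hT ▸ S.isPGroup'.map _
  obtain ⟨Q, hQ⟩ := hTp.exists_le_sylow
  refine ⟨Q, ?_⟩
  by_contra hTQ
  have hlt : T < Q := lt_of_le_of_ne hQ (Ne.symm hTQ)
  have h4 := lt_inf_normalizer_of_pGroup Q.isPGroup' hlt
  have hle : (Q : Subgroup G) ⊓ Subgroup.normalizer (T : Set G) ≤ X := inf_le_right.trans h
  have hp1 : IsPGroup p (((Q : Subgroup G) ⊓ Subgroup.normalizer (T : Set G)).subgroupOf X) :=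
    (Q.isPGroup'.to_le inf_le_left).comap_of_injective X.subtype X.subtype_injective
  have hle2 : (S : Subgroup X) ≤
      ((Q : Subgroup G) ⊓ Subgroup.normalizer (T : Set G)).subgroupOf X := by
    intro s hs
    rw [Subgroup.mem_subgroupOf]
    apply h4.le
    rw [hT]
    exact ⟨s, hs, rfl⟩
  have heq := S.is_maximal' hp1 hle2
  apply h4.not_ge
  intro x hx
  have hx' : (⟨x, hle hx⟩ : X) ∈ (S : Subgroup X) := by
    rw [← heq, Subgroup.mem_subgroupOf]
    exact hx
  rw [hT]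
  exact ⟨⟨x, hle hx⟩, hx', rfl⟩

/-- No nontrivial invariant `π(A)'`-subgroups, given none of prime power order. -/
theorem eq_bot_of_inv_of_primes (A : Subgroup G) (hAs : Group.IsSolvable A)
    (hq : ∀ q : ℕ, q.Prime → ¬ q ∣ Nat.card A → ∀ Y ∈ invSubgroups ⊤ A {q}, Y = ⊥) :
    ∀ Y ∈ invSubgroups ⊤ A (primesNotDvd (Nat.card A)), Y = ⊥ := by
  intro Y hY
  by_contra hne
  obtain ⟨-, hπ, hAY⟩ := hY
  have hc1 : Nat.card Y ≠ 1 := fun h => hne (Subgroup.card_eq_one.mp h)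
  obtain ⟨q, hq', hqdvd⟩ := Nat.exists_prime_and_dvd hc1
  have hqA := (hπ q hq' hqdvd).2
  have : Fact q.Prime := ⟨hq'⟩
  have hcop : (Nat.card A).Coprime (Nat.card Y) := by
    apply Nat.coprime_of_dvd
    intro k hk hkA hkY
    exact (hπ k hk hkY).2 hkA
  obtain ⟨P, hP⟩ := Cfsg.Agent.S0023.result A Y hAY hcop (Or.inl hAs) q
  have h1 := hq q hq' hqA _ (mem_inv_of_isPGroup le_top (P.isPGroup'.map _) hP)
  rw [Subgroup.map_eq_bot_iff_of_injective _ Y.subtype_injective] at h1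
  exact P.ne_bot_of_dvd_card hqdvd h1

/-- Under the transitivity hypothesis with `Z(A)` of rank at least 3 and `O_{π'}(C_G(A)) = 1`,
a subgroup `A` of `F(M)` with `π(A) = π(F(M))` normalizes no nontrivial `q`-subgroup for
`q ∉ π(A)`. -/
theorem eq_bot_of_inv_q (hG : IsMinSimpleOddOrder G) (M : Subgroup G) (hM : IsCoatom M)
    (A : Subgroup G) (hA : TransitivityHypothesis A)
    (hZ : ¬ RankLE 2 ↥(A ⊓ Subgroup.centralizer (A : Set G)))
    (hK : piCoreOf (primesNotDvd (Nat.card A)) (Subgroup.centralizer (A : Set G)) = ⊥)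
    (hAF : A ≤ fittingOf M)
    (hπ : ∀ r : ℕ, r.Prime → r ∣ Nat.card (fittingOf M) → r ∣ Nat.card A)
    (q : ℕ) (hq : q.Prime) (hqA : ¬ q ∣ Nat.card A) :
    ∀ Y ∈ invSubgroups ⊤ A {q}, Y = ⊥ := by
  have : Fact q.Prime := ⟨hq⟩
  have htr := Cfsg.Agent.S1393.result hG A hA hZ q hq hqA
  have hFtop : fittingOf M ≠ ⊤ := fun h => hM.1 (top_le_iff.mp (h ▸ fittingOf_le M))
  have hnil := fittingOf_isNilpotent M
  have hsn : (A.subgroupOf (fittingOf M)).IsSubnormal :=
    Cfsg.Agent.S0541.isSubnormal_of_isNilpotent _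
  obtain ⟨-, -, hsub, -⟩ :=
    Cfsg.Agent.S1395.result hG A hA q hq hqA (fittingOf M) hFtop hπ hAF hsn htr
  have huniq : ∀ Q₁ ∈ maxInvSubgroups ⊤ A {q}, ∀ Q₂ ∈ maxInvSubgroups ⊤ A {q}, Q₂ = Q₁ := by
    intro Q₁ h1 Q₂ h2
    obtain ⟨k, hk, rfl⟩ := htr Q₁ h1 Q₂ h2
    rw [hK, Subgroup.mem_bot] at hk
    rw [hk, mapConj_one]
  have hbot : (⊥ : Subgroup G) ∈ invSubgroups ⊤ (fittingOf M) {q} :=
    mem_inv_of_isPGroup le_top IsPGroup.of_bot (by
      intro x _
      rw [Subgroup.mem_normalizer_iff]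
      intro y
      simp)
  obtain ⟨Q, hQ, -⟩ := exists_maxInv_ge hbot
  have hQA := hsub hQ
  have hMQ : M ≤ Subgroup.normalizer (Q : Set G) := by
    intro m hm
    apply mem_normalizer_of_mapConj_eq
    have h6 := mapConj_mem_maxInv_of_normalizer hQ (le_normalizer_fittingOf M hm)
    exact huniq Q hQA _ (hsub h6)
  have hQp : IsPGroup q Q := isPGroup_of_mem_inv hQ.1
  have hQ1 : Q = ⊥ := by
    by_contra hne
    have hN := normalizer_eq_of_coatom_le hG M hM hne (isPGroup_ne_top hG hQp) hMQ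
    have hQM : Q ≤ M := hN ▸ Subgroup.le_normalizer
    have hQF : Q ≤ fittingOf M := le_fittingOf_of_normal_nilpotent M Q hQM hMQ hQp.isNilpotent
    apply hqA
    apply hπ q hq
    have hqQ : q ∣ Nat.card Q := by
      obtain ⟨n, hn⟩ := IsPGroup.iff_card.mp hQp
      have hn0 : n ≠ 0 := by
        rintro rfl
        rw [pow_zero] at hn
        exact hne (Subgroup.card_eq_one.mp hn)
      exact hn ▸ dvd_pow_self q hn0
    exact hqQ.trans (Subgroup.card_dvd_of_le hQF)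
  intro Y hY
  obtain ⟨Q', hQ', hYQ'⟩ := exists_maxInv_ge hY
  have := huniq Q hQA Q' hQ'
  rw [this, hQ1] at hYQ'
  exact le_bot_iff.mp hYQ'

end General

end Cfsg.Agent.Lib.Helper72.BG8
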