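import Mathlib
import Cfsg.Agent.Lib.Helper72.BG8

/-!
Bender–Glauberman Theorem 8.1, parts (a) and (b) (helper72).
-/

set_option autoImplicit false

namespace Cfsg.Agent.Lib.Helper72.BG8

open Cfsg Cfsg.Agent.Lib.Helper23

universe u

variable {G : Type u} [Group G] [Finite G]

theorem dvd_card_of_isPGroup_ne_bot {p : ℕ} [Fact p.Prime] {D : Subgroup G} (hD : IsPGroup p D)
    (h : D ≠ ⊥) : p ∣ Nat.card D := by
  obtain ⟨n, hn⟩ := IsPGroup.iff_card.mp hD
  have hn0 : n ≠ 0 := by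
    rintro rfl
    rw [pow_zero] at hn
    exact h (Subgroup.card_eq_one.mp hn)
  exact hn ▸ dvd_pow_self p hn0

theorem elemAb_ne_bot {p : ℕ} [Fact p.Prime] {A₀ : Subgroup G} (hA₀3 : p ^ 3 ≤ Nat.card A₀) :
    A₀ ≠ ⊥ := by
  have hpp : p.Prime := Fact.out
  have h1 : 1 < Nat.card A₀ := lt_of_lt_of_le (Nat.one_lt_pow (by norm_num) hpp.one_lt) hA₀3
  exact (Subgroup.one_lt_card_iff_ne_bot _).mp h1

/-- **Bender–Glauberman 8.1(a)**. -/
theorem part_a (hG : IsMinSimpleOddOrder G)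
    (M : Subgroup G) (hM : IsCoatom M) (p : ℕ) [Fact p.Prime] (A₀ : Subgroup G)
    (hA₀ : A₀ ≤ fittingOf M) (hA₀e : IsElementaryAbelian p A₀) (hA₀3 : p ^ 3 ≤ Nat.card A₀)
    (hnp : ¬ IsPGroup p ↥(fittingOf M)) :
    InUniqueMaximal (fittingOf M ⊓ Subgroup.centralizer (A₀ : Set G)) := by
  have hG' := hG
  obtain ⟨hodd, hsimple, hnc, hsolv⟩ := hG'
  have hpp : p.Prime := Fact.out
  have hMtop : M ≠ ⊤ := hM.1
  have hMs : Group.IsSolvable M := hsolv M hMtop
  obtain ⟨A, hAdef⟩ : ∃ A : Subgroup G,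
      A = fittingOf M ⊓ Subgroup.centralizer (A₀ : Set G) := ⟨_, rfl⟩
  rw [← hAdef]
  have hA₀c := hA₀e.1
  have hA₀C : A₀ ≤ Subgroup.centralizer (A₀ : Set G) := by
    intro a ha
    rw [Subgroup.mem_centralizer_iff]
    intro b hb
    exact setLike_mul_comm hb ha
  have hA₀A : A₀ ≤ A := hAdef ▸ le_inf hA₀ hA₀C
  have hAF : A ≤ fittingOf M := hAdef ▸ inf_le_left
  have hAM : A ≤ M := hAF.trans (fittingOf_le M)
  have hCM : fittingOf M ⊓ Subgroup.centralizer (A : Set G) ≤ A := by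
    intro x hx
    rw [hAdef]
    exact ⟨hx.1, Subgroup.centralizer_le hA₀A hx.2⟩
  have hA₀1 : A₀ ≠ ⊥ := elemAb_ne_bot hA₀3
  have hA₀p : IsPGroup p A₀ := Cfsg.Agent.Lib.Helper11.elemAb_isPGroup hA₀e
  have hpF : p ∣ Nat.card (fittingOf M) :=
    (dvd_card_of_isPGroup_ne_bot hA₀p hA₀1).trans (Subgroup.card_dvd_of_le hA₀)
  have hF2 : 2 ≤ (Nat.card (fittingOf M)).primeFactors.card := by
    by_contra hcon
    push Not at hcon
    apply hnp
    have hpos : Nat.card (fittingOf M) ≠ 0 := Nat.card_pos.ne'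
    have hpm : p ∈ (Nat.card (fittingOf M)).primeFactors :=
      Nat.mem_primeFactors.mpr ⟨hpp, hpF, hpos⟩
    have huniq : ∀ {d : ℕ}, d.Prime → d ∣ Nat.card (fittingOf M) → d = p := by
      intro d hd hdvd
      have hdm : d ∈ (Nat.card (fittingOf M)).primeFactors :=
        Nat.mem_primeFactors.mpr ⟨hd, hdvd, hpos⟩
      exact Finset.card_le_one.mp (by omega) d hdm p hpm
    exact IsPGroup.of_card (Nat.eq_prime_pow_of_unique_prime_dvd hpos huniq)
  have hloc : ∀ (s : ℕ) (T : Subgroup G), s.Prime → IsPGroup s T → T ≠ ⊥ → T ≤ M →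
      M ≤ Subgroup.normalizer (T : Set G) → Subgroup.normalizer (T : Set G) = M :=
    fun s T _ _ hT1 hTM hMT => normalizer_eq_of_isCoatom hsimple M hM T hT1 hTM hMT
  have hZA : ∀ Z : Subgroup G, Z ≤ fittingOf M →
      Z ≤ Subgroup.centralizer (fittingOf M : Set G) → Z ≤ A := by
    intro Z h1 h2 z hz
    rw [hAdef]
    exact ⟨h1 hz, Subgroup.centralizer_le hA₀ (h2 hz)⟩
  have hπ : ∀ r : ℕ, r.Prime → r ∣ Nat.card (fittingOf M) → r ∣ Nat.card A := by
    intro r hr hrF
    have : Fact r.Prime := ⟨hr⟩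
    obtain ⟨Z, hZ1, hZr, hZF, hZC, -, -⟩ := exists_central_part M hloc r hrF
    exact (dvd_card_of_isPGroup_ne_bot hZr hZ1).trans (Subgroup.card_dvd_of_le (hZA Z hZF hZC))
  have hprimes : primesNotDvd (Nat.card (fittingOf M)) = primesNotDvd (Nat.card A) :=
    primesNotDvd_eq_of_le hAF hπ
  have hA1 : A ≠ ⊥ := fun h => hA₀1 (le_bot_iff.mp (h ▸ hA₀A))
  have hAtop : A ≠ ⊤ := fun h => hMtop (top_le_iff.mp (h ▸ hAM))
  have hcopF : ∀ Y : Subgroup G,
      (∀ q : ℕ, q.Prime → q ∣ Nat.card Y → q ∈ primesNotDvd (Nat.card A)) →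
      (Nat.card Y).Coprime (Nat.card (fittingOf M)) := by
    intro Y hY
    apply Nat.coprime_of_dvd
    intro k hk hkY hkF
    exact (hY k hk hkY).2 (hπ k hk hkF)
  have hCF : M ⊓ Subgroup.centralizer (fittingOf M : Set G) ≤ A := by
    intro z hz
    exact hZA _ inf_le_left inf_le_right
      ⟨mem_fittingOf_of_centralizer M hMs hz.1 hz.2, hz.2⟩
  have hTH : TransitivityHypothesis A := by
    refine ⟨hA1, hAtop, ?_⟩
    intro X hX hAX
    apply le_antisymm
    · apply sSup_le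
      intro Y hY
      rw [← hprimes]
      exact le_piCoreOf_of_inv M hloc hF2 A hAF hCM X (hsolv X hX)
        (hAX.trans Subgroup.le_normalizer) (hCF.trans (hAX.trans Subgroup.le_normalizer)) Y hY.1
        (hcopF Y hY.2.1) hY.2.2
    · apply le_sSup
      exact ⟨piCoreOf_le _ _, piCoreOf_isPi _ _, hAX.trans (piCoreOf_normalizer _ _)⟩
  have hZ : ¬ RankLE 2 ↥(A ⊓ Subgroup.centralizer (A : Set G)) := by
    intro h
    have hle : A₀ ≤ A ⊓ Subgroup.centralizer (A : Set G) := by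
      refine le_inf hA₀A ?_
      have hAC : A ≤ Subgroup.centralizer (A₀ : Set G) := hAdef ▸ inf_le_right
      exact Subgroup.le_centralizer_iff.mp hAC
    have h1 := h p hpp (A₀.subgroupOf (A ⊓ Subgroup.centralizer (A : Set G))) inferInstance ?_
    · rw [Cfsg.Agent.Lib.Helper1.card_subgroupOf_of_le hle] at h1
      have : p ^ 2 < p ^ 3 := Nat.pow_lt_pow_right hpp.one_lt (by norm_num)
      omega
    · intro a ha
      apply Subtype.ext
      rw [Subgroup.coe_pow]
      exact hA₀e.2 _ (Subgroup.mem_subgroupOf.mp ha)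
  have hK : piCoreOf (primesNotDvd (Nat.card A)) (Subgroup.centralizer (A : Set G)) = ⊥ := by
    obtain ⟨Z, hZ1, hZr, hZF, hZC, -, hCZ⟩ := exists_central_part M hloc p hpF
    have hKC := piCoreOf_le (primesNotDvd (Nat.card A)) (Subgroup.centralizer (A : Set G))
    have hKM : piCoreOf (primesNotDvd (Nat.card A)) (Subgroup.centralizer (A : Set G)) ≤ M :=
      hKC.trans ((Subgroup.centralizer_le (hZA Z hZF hZC)).trans hCZ)
    have hKc := hcopF _
      (piCoreOf_isPi (primesNotDvd (Nat.card A)) (Subgroup.centralizer (A : Set G)))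
    have hAK : A ≤ Subgroup.normalizer
        (piCoreOf (primesNotDvd (Nat.card A)) (Subgroup.centralizer (A : Set G)) : Set G) :=
      (Subgroup.le_normalizer.trans (normalizer_le_normalizer_centralizer A)).trans
        (normalizer_le_normalizer_piCoreOf _ _)
    have h1 := le_centralizer_fittingOf_of_coprime M A _ hAF hCM hKM hKc hAK
    have hKF : piCoreOf (primesNotDvd (Nat.card A)) (Subgroup.centralizer (A : Set G)) ≤
        fittingOf M := fun z hz => mem_fittingOf_of_centralizer M hMs (hKM hz) (h1 hz)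
    exact Subgroup.card_eq_one.mp (Nat.Coprime.eq_one_of_dvd hKc (Subgroup.card_dvd_of_le hKF))
  have hAs : Group.IsSolvable A := hsolv A hAtop
  have hinv := eq_bot_of_inv_of_primes A hAs
    (fun q hq hqA => eq_bot_of_inv_q hG M hM A hTH hZ hK hAF hπ q hq hqA)
  have hinv' : ∀ Y ∈ invSubgroups ⊤ A (primesNotDvd (Nat.card (fittingOf M))), Y = ⊥ := by
    rw [hprimes]
    exact hinv
  have hZM : fittingOf M ⊓ Subgroup.centralizer (fittingOf M : Set G) ≤ A :=
    hZA _ inf_le_left inf_le_right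
  have huniq := Cfsg.Agent.S1482.result hG M hM hF2 A hAF hZM hinv'
  exact ⟨M, ⟨hM, hAM⟩, fun L hL => huniq L hL.1 hL.2⟩

/-- **Bender–Glauberman 8.1(b)**. -/
theorem part_b (hG : IsMinSimpleOddOrder G)
    (M : Subgroup G) (hM : IsCoatom M) (p : ℕ) [Fact p.Prime] (A₀ : Subgroup G)
    (hA₀ : A₀ ≤ fittingOf M) (hA₀1 : A₀ ≠ ⊥)
    (hFp : IsPGroup p ↥(fittingOf M)) (P : Sylow p M) :
    ¬ p ∣ ((P : Subgroup M).map M.subtype).index ∧
      ∀ A : Subgroup G, IsSCN ((P : Subgroup M).map M.subtype) A → ¬ PRankLE p 2 ↥A →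
        A ≤ fittingOf M ∧ InUniqueMaximal A := by
  have hG' := hG
  obtain ⟨hodd, hsimple, hnc, hsolv⟩ := hG'
  have hpp : p.Prime := Fact.out
  have hMtop : M ≠ ⊤ := hM.1
  have hMs : Group.IsSolvable M := hsolv M hMtop
  have hMF := le_normalizer_fittingOf M
  have hFM := fittingOf_le M
  have hoddX : ∀ X : Subgroup G, Odd (Nat.card X) :=
    fun X => Odd.of_dvd_nat hodd (Subgroup.card_subgroup_dvd_card X)
  have hF1 : fittingOf M ≠ ⊥ := fun h => hA₀1 (le_bot_iff.mp (h ▸ hA₀))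
  obtain ⟨P', hP'⟩ : ∃ P' : Subgroup G, P' = (P : Subgroup M).map M.subtype := ⟨_, rfl⟩
  rw [← hP']
  have hP'p : IsPGroup p P' := hP' ▸ P.isPGroup'.map _
  have hP'M : P' ≤ M := hP' ▸ Subgroup.map_subtype_le _
  have hFmp : IsPGroup p (Cfsg.fittingSubgroup ↥M) :=
    hFp.of_equiv (Subgroup.equivMapOfInjective _ _ M.subtype_injective).symm
  have hFmn : (Cfsg.fittingSubgroup ↥M).Normal := Cfsg.Agent.Lib.Helper71.fittingSubgroup_normal
  have hFP : fittingOf M ≤ P' := by
    rw [hP']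
    exact Subgroup.map_mono (le_sylow_of_normal P _ hFmp)
  have hP'1 : P' ≠ ⊥ := fun h => hF1 (le_bot_iff.mp (h ▸ hFP))
  have hO : Cfsg.pPrimeCore p ↥M = ⊥ := by
    have hKn := Cfsg.Agent.Lib.Helper22.pPrimeCore_normal' p ↥M
    have hKc := Cfsg.Agent.Lib.Helper22.card_pPrimeCore_coprime p ↥M
    have hdis : Disjoint (Cfsg.pPrimeCore p ↥M) (Cfsg.fittingSubgroup ↥M) := by
      apply Subgroup.disjoint_of_coprime_natCard
      obtain ⟨n, hn⟩ := IsPGroup.iff_card.mp hFmp
      rw [hn]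
      exact Nat.Coprime.pow_right n hKc
    have hKC : Cfsg.pPrimeCore p ↥M ≤
        Subgroup.centralizer (Cfsg.fittingSubgroup ↥M : Set ↥M) := by
      intro k hk
      rw [Subgroup.mem_centralizer_iff]
      intro f hf
      exact (Subgroup.commute_of_normal_of_disjoint _ _ hKn hFmn hdis k f hk hf).eq.symm
    have hKF : Cfsg.pPrimeCore p ↥M ≤ Cfsg.fittingSubgroup ↥M :=
      hKC.trans Cfsg.Agent.S0044.result
    exact le_bot_iff.mp ((le_inf le_rfl hKF).trans (disjoint_iff.mp hdis).le)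
  have hZJ := le_normalizer_centerThompsonOf_of_core M hMs (hoddX M) p P hO
  rw [← hP'] at hZJ
  have hZ1 := centerThompsonOf_ne_bot P' hP'p hP'1
  have hZp : IsPGroup p (centerThompsonOf p P') := hP'p.to_le (centerThompsonOf_le p P')
  have hNZ := normalizer_eq_of_coatom_le hG M hM hZ1 (isPGroup_ne_top hG hZp) hZJ
  have hNP : Subgroup.normalizer (P' : Set G) ≤ M :=
    hNZ ▸ normalizer_le_normalizer_centerThompsonOf p P'
  obtain ⟨Q, hQ⟩ := exists_sylow_eq_of_normalizer_le M P (hP' ▸ hNP)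
  rw [← hP'] at hQ
  refine ⟨?_, ?_⟩
  · rw [← hQ]
    exact Q.not_dvd_index
  intro A hSCN hrank
  obtain ⟨hAP, hPA, hPC⟩ := hSCN
  have hAC : A ≤ Subgroup.centralizer (A : Set G) := by
    intro a ha
    have h1 : a ∈ P' ⊓ Subgroup.centralizer (A : Set G) := by
      rw [hPC]
      exact ha
    exact h1.2
  have hAc : IsMulCommutative A :=
    IsMulCommutative.of_setLike_mul_comm
      (fun a ha b hb => Subgroup.mem_centralizer_iff.mp (hAC hb) a ha)
  have hAp : IsPGroup p A := hP'p.to_le hAP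
  have hAM : A ≤ M := hAP.trans hP'M
  have hAF : A ≤ fittingOf M := by
    have hA'P : A.subgroupOf M ≤ (P : Subgroup M) := by
      intro x hx
      have h1 : (x : G) ∈ P' := hAP (Subgroup.mem_subgroupOf.mp hx)
      rw [hP'] at h1
      obtain ⟨y, hy, hyx⟩ := h1
      have : y = x := Subtype.ext hyx
      exact this ▸ hy
    have hA'c : IsMulCommutative (A.subgroupOf M) := inferInstance
    have hPA' : (P : Subgroup M) ≤
        Subgroup.normalizer ((A.subgroupOf M : Subgroup M) : Set M) := by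
      intro x hx
      have h1 : (x : G) ∈ Subgroup.normalizer (A : Set G) := hPA (hP' ▸ ⟨x, hx, rfl⟩)
      rw [Subgroup.mem_normalizer_iff] at h1 ⊢
      intro y
      rw [Subgroup.mem_subgroupOf, Subgroup.mem_subgroupOf]
      exact h1 (y : G)
    have h2 := Cfsg.Agent.S1457.result (G := ↥M) (hoddX M) p P (A.subgroupOf M) hA'P hA'c hPA'
    have h3 := h2.trans (pPrimePCore_le_fitting p hO)
    intro a ha
    exact ⟨⟨a, hAM ha⟩, h3 (Subgroup.mem_subgroupOf.mpr ha), rfl⟩
  refine ⟨hAF, ?_⟩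
  have hZF1 : fittingOf M ⊓ Subgroup.centralizer (fittingOf M : Set G) ≠ ⊥ :=
    Cfsg.Agent.Lib.Helper91.inf_centralizer_ne_bot _ hFp hF1
  have hZFA : fittingOf M ⊓ Subgroup.centralizer (fittingOf M : Set G) ≤ A := by
    intro z hz
    rw [← hPC]
    exact ⟨hFP hz.1, Subgroup.centralizer_le hAF hz.2⟩
  have hA1 : A ≠ ⊥ := fun h => hZF1 (le_bot_iff.mp (h ▸ hZFA))
  have hMZF : M ≤ Subgroup.normalizer
      ((fittingOf M ⊓ Subgroup.centralizer (fittingOf M : Set G) : Subgroup G) : Set G) :=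
    le_normalizer_inf hMF (hMF.trans (normalizer_le_normalizer_centralizer _))
  have hNZF := normalizer_eq_of_coatom_le hG M hM hZF1
    (isPGroup_ne_top hG (hFp.to_le inf_le_left)) hMZF
  have hCAM : Subgroup.centralizer (A : Set G) ≤ M :=
    (Subgroup.centralizer_le hZFA).trans ((Subgroup.centralizer_le_normalizer _).trans hNZF.le)
  have hpA : p ∣ Nat.card A := dvd_card_of_isPGroup_ne_bot hAp hA1
  have hpG : p ∣ Nat.card G := hpA.trans (Subgroup.card_subgroup_dvd_card A)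
  have hr1 : ¬ PRankLE p 1 ↥A := by
    intro h
    apply hrank
    intro B hBc hBe
    exact (h B hBc hBe).trans (Nat.pow_le_pow_right hpp.pos (by norm_num))
  have hSCNQ : IsSCN (Q : Subgroup G) A := by
    rw [hQ]
    exact ⟨hAP, hPA, hPC⟩
  have hTH : TransitivityHypothesis A :=
    Cfsg.Agent.S1396.result hG p hpG A hAp hAc (Or.inr ⟨Q, hSCNQ, hr1⟩)
  have hAA : A ⊓ Subgroup.centralizer (A : Set G) = A := inf_eq_left.mpr hAC
  have hZ : ¬ RankLE 2 ↥(A ⊓ Subgroup.centralizer (A : Set G)) := by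
    rw [hAA]
    exact fun h => hrank (h p hpp)
  have hcopK : ∀ Y : Subgroup G,
      (∀ q : ℕ, q.Prime → q ∣ Nat.card Y → q ∈ primesNotDvd (Nat.card A)) →
      (Nat.card Y).Coprime p := by
    intro Y hY
    rw [Nat.coprime_comm, Nat.Prime.coprime_iff_not_dvd hpp]
    exact fun h => (hY p hpp h).2 hpA
  have hK : piCoreOf (primesNotDvd (Nat.card A)) (Subgroup.centralizer (A : Set G)) = ⊥ := by
    have hKC := piCoreOf_le (primesNotDvd (Nat.card A)) (Subgroup.centralizer (A : Set G))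
    have hKM := hKC.trans hCAM
    have hKc := hcopK _
      (piCoreOf_isPi (primesNotDvd (Nat.card A)) (Subgroup.centralizer (A : Set G)))
    have h1 := Cfsg.Agent.S0028.result p A _ (fittingOf M) hAp hKc hFp
      (Subgroup.le_centralizer_iff.mp hKC) (hAF.trans Subgroup.le_normalizer) (hKM.trans hMF) ?_
    · have hKF : piCoreOf (primesNotDvd (Nat.card A)) (Subgroup.centralizer (A : Set G)) ≤
          fittingOf M := fun z hz => mem_fittingOf_of_centralizer M hMs (hKM hz) (h1 hz)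
      obtain ⟨n, hn⟩ := IsPGroup.iff_card.mp hFp
      have hd := Subgroup.card_dvd_of_le hKF
      rw [hn] at hd
      exact Subgroup.card_eq_one.mp (Nat.Coprime.eq_one_of_dvd (Nat.Coprime.pow_right n hKc) hd)
    · intro z hz
      have hzA : z ∈ A := by
        rw [← hPC]
        exact ⟨hFP hz.1, hz.2⟩
      exact Subgroup.le_centralizer_iff.mp hKC hzA
  have hπ : ∀ r : ℕ, r.Prime → r ∣ Nat.card (fittingOf M) → r ∣ Nat.card A := by
    intro r hr hrF
    obtain ⟨n, hn⟩ := IsPGroup.iff_card.mp hFp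
    rw [hn] at hrF
    have := (Nat.prime_dvd_prime_iff_eq hr hpp).mp (hr.dvd_of_dvd_pow hrF)
    rw [this]
    exact hpA
  have hAs : Group.IsSolvable A := hsolv A (isPGroup_ne_top hG hAp)
  have hinv := eq_bot_of_inv_of_primes A hAs
    (fun q hq hqA => eq_bot_of_inv_q hG M hM A hTH hZ hK hAF hπ q hq hqA)
  have hinvA : ∀ Y : Subgroup G, (Nat.card Y).Coprime p →
      A ≤ Subgroup.normalizer (Y : Set G) → Y = ⊥ := by
    intro Y hYc hAY
    apply hinv
    refine ⟨le_top, ?_, hAY⟩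
    intro r hr hrY
    refine ⟨hr, fun hrA => ?_⟩
    obtain ⟨n, hn⟩ := IsPGroup.iff_card.mp hAp
    rw [hn] at hrA
    have := (Nat.prime_dvd_prime_iff_eq hr hpp).mp (hr.dvd_of_dvd_pow hrA)
    rw [this] at hrY
    exact hpp.one_lt.ne' (Nat.Coprime.eq_one_of_dvd hYc.symm hrY)
  have huniq := unique_max_of_sylow_N A hAp hA1
    (fun S => Subgroup.normalizer (centerThompsonOf p S : Set G))
    (fun S hS hS1 => normalizer_ne_top_of_isPGroup hG (hS.to_le (centerThompsonOf_le p S))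
      (centerThompsonOf_ne_bot S hS hS1))
    (fun S => normalizer_le_normalizer_centerThompsonOf p S)
    (by
      intro X hX hAX S
      obtain ⟨g, hg⟩ := hAX
      apply le_normalizer_centerThompsonOf_of_core X (hsolv X hX) (hoddX X) p S
      apply pPrimeCore_eq_bot_of
      intro Y hYX hXY hYc
      have h1 := hinvA (Y.map (MulAut.conj g⁻¹).toMonoidHom)
        (by rw [card_mapConj]; exact hYc) ?_
      · exact (Subgroup.map_eq_bot_iff_of_injective _ (MulAut.conj g⁻¹).injective).mp h1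
      · intro a ha
        rw [← conj_smul_eq_mapConj]
        apply Cfsg.Agent.Lib.Helper91.conj_mem_normalizer_conj_smul
        rw [inv_inv]
        exact hXY (hg ⟨a, ha, rfl⟩))
  exact ⟨M, ⟨hM, hAM⟩, fun L hL => huniq L M hL.1 hM hL.2 hAM⟩

end Cfsg.Agent.Lib.Helper72.BG8
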