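import Mathlib

set_option autoImplicit false

namespace Cfsg.Agent.Lib.Helper72

variable {G : Type*} [Group G]

/-- Second isomorphism theorem in index form: `[HK : H] = [K : H ∩ K]` for `K` normal. -/
theorem relIndex_sup_normal [Finite G] (H K : Subgroup G) [K.Normal] :
    H.relIndex (H ⊔ K) = H.relIndex K := by
  have h1 : H.relIndex (H ⊔ K) * (H ⊔ K).index = H.index :=
    Subgroup.relIndex_mul_index le_sup_left
  have h2 : K.relIndex H * (H ⊔ K).index = K.index := by
    rw [← Subgroup.relIndex_sup_right (H := H) (K := K)]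
    exact Subgroup.relIndex_mul_index le_sup_right
  have h3 : H.relIndex K * K.index = (H ⊓ K).index := by
    rw [← Subgroup.inf_relIndex_right]
    exact Subgroup.relIndex_mul_index inf_le_right
  have h4 : K.relIndex H * H.index = (H ⊓ K).index := by
    rw [← Subgroup.inf_relIndex_left]
    exact Subgroup.relIndex_mul_index inf_le_left
  have hpos : 0 < (H ⊔ K).index := Nat.pos_of_ne_zero Subgroup.index_ne_zero_of_finite
  have hpos2 : 0 < K.relIndex H :=
    Nat.pos_of_ne_zero (Subgroup.index_ne_zero_of_finite (H := K.subgroupOf H))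
  have key : H.relIndex K * (K.relIndex H * (H ⊔ K).index) =
      H.relIndex (H ⊔ K) * (K.relIndex H * (H ⊔ K).index) := by
    calc H.relIndex K * (K.relIndex H * (H ⊔ K).index) = H.relIndex K * K.index := by rw [h2]
      _ = K.relIndex H * H.index := by rw [h3, h4]
      _ = K.relIndex H * (H.relIndex (H ⊔ K) * (H ⊔ K).index) := by rw [h1]
      _ = H.relIndex (H ⊔ K) * (K.relIndex H * (H ⊔ K).index) := by ring
  exact (Nat.eq_of_mul_eq_mul_right (Nat.mul_pos hpos2 hpos) key).symm

/-- Frattini: the normalizer of `PK` is `N(P) K`. -/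
theorem normalizer_sup_eq [Finite G] {p : ℕ} [Fact p.Prime] (K : Subgroup G) [K.Normal]
    (P : Sylow p G) :
    Subgroup.normalizer (((P : Subgroup G) ⊔ K : Subgroup G) : Set G) =
      Subgroup.normalizer ((P : Subgroup G) : Set G) ⊔ K := by
  apply le_antisymm
  · intro g hg
    have hPL : (P : Subgroup G) ≤
        Subgroup.normalizer (((P : Subgroup G) ⊔ K : Subgroup G) : Set G) :=
      le_sup_left.trans Subgroup.le_normalizer
    have hle : ((P.subtype hPL : Sylow p _) : Subgroup _) ≤ ((P : Subgroup G) ⊔ K).subgroupOf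
        (Subgroup.normalizer (((P : Subgroup G) ⊔ K : Subgroup G) : Set G)) := by
      rw [Sylow.coe_subtype]
      intro x hx
      exact Subgroup.mem_subgroupOf.mpr
        (le_sup_left (a := (P : Subgroup G)) (Subgroup.mem_subgroupOf.mp hx))
    have hfr := Sylow.normalizer_sup_eq_top' (P.subtype hPL) hle
    have hmem : (⟨g, hg⟩ : Subgroup.normalizer (((P : Subgroup G) ⊔ K : Subgroup G) : Set G)) ∈
        Subgroup.normalizer ((P.subtype hPL : Sylow p _) : Set _) ⊔
          ((P : Subgroup G) ⊔ K).subgroupOf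
            (Subgroup.normalizer (((P : Subgroup G) ⊔ K : Subgroup G) : Set G)) := by
      rw [hfr]; exact Subgroup.mem_top _
    obtain ⟨a, ha, b, hb, hab⟩ := Subgroup.mem_sup_of_normal_right.mp hmem
    have ha' : (a : G) ∈ Subgroup.normalizer ((P : Subgroup G) : Set G) := by
      have h1 : a ∈ (Subgroup.normalizer ((P : Subgroup G) : Set G)).subgroupOf
          (Subgroup.normalizer (((P : Subgroup G) ⊔ K : Subgroup G) : Set G)) := by
        rw [Subgroup.subgroupOf_normalizer_eq hPL]
        exact ha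
      exact Subgroup.mem_subgroupOf.mp h1
    have hb' : (b : G) ∈ (P : Subgroup G) ⊔ K := Subgroup.mem_subgroupOf.mp hb
    have hg' : g = (a : G) * (b : G) := by
      have := congrArg Subtype.val hab
      exact this.symm
    rw [hg']
    have hle2 : (P : Subgroup G) ⊔ K ≤ Subgroup.normalizer ((P : Subgroup G) : Set G) ⊔ K :=
      sup_le_sup_right Subgroup.le_normalizer K
    exact Subgroup.mul_mem _ (Subgroup.mem_sup_left ha') (hle2 hb')
  · apply sup_le
    · intro g hg
      rw [Subgroup.mem_normalizer_iff_map_conj_eq] at hg ⊢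
      have hK : K.map (MulAut.conj g : G →* G) = K := by
        apply Subgroup.mem_normalizer_iff_map_conj_eq.mp
        rw [Subgroup.normalizer_eq_top]; exact Subgroup.mem_top _
      rw [Subgroup.map_sup, hg, hK]
    · exact le_sup_right.trans Subgroup.le_normalizer

/-- The number of Sylow subgroups of a quotient. -/
theorem card_sylow_quot [Finite G] {p : ℕ} [Fact p.Prime] (K : Subgroup G) [K.Normal]
    (P : Sylow p G) :
    Nat.card (Sylow p (G ⧸ K)) = (Subgroup.normalizer ((P : Subgroup G) : Set G) ⊔ K).index := by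
  have hs := QuotientGroup.mk'_surjective K
  have h1 : Nat.card (Sylow p (G ⧸ K)) =
      (Subgroup.normalizer (((P : Subgroup G).map (QuotientGroup.mk' K) : Subgroup (G ⧸ K)) :
        Set (G ⧸ K))).index :=
    (P.mapSurjective hs).card_eq_index_normalizer
  rw [h1, ← normalizer_sup_eq K P, ← Subgroup.index_comap_of_surjective _ hs,
    Subgroup.comap_normalizer_eq_of_surjective _ hs, Subgroup.comap_map_eq,
    QuotientGroup.ker_mk']

/-- `n_p(G) = n_p(G/K) * [K : N_K(P)]`. -/
theorem card_sylow_eq_mul [Finite G] {p : ℕ} [Fact p.Prime] (K : Subgroup G) [K.Normal]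
    (P : Sylow p G) :
    Nat.card (Sylow p G) = Nat.card (Sylow p (G ⧸ K)) *
      (Subgroup.normalizer ((P : Subgroup G) : Set G)).relIndex K := by
  rw [card_sylow_quot K P, mul_comm, ← relIndex_sup_normal _ K,
    Subgroup.relIndex_mul_index le_sup_left]
  exact P.card_eq_index_normalizer

/-- A normal subgroup inside a Sylow subgroup does not change the Sylow number. -/
theorem card_sylow_quot_of_le [Finite G] {p : ℕ} [Fact p.Prime] (Q : Subgroup G) [Q.Normal]
    (P : Sylow p G) (hQ : Q ≤ (P : Subgroup G)) :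
    Nat.card (Sylow p (G ⧸ Q)) = Nat.card (Sylow p G) := by
  rw [card_sylow_quot Q P, P.card_eq_index_normalizer]
  congr 1
  exact sup_eq_left.mpr (hQ.trans Subgroup.le_normalizer)

theorem not_dvd_relIndex [Finite G] {p : ℕ} [Fact p.Prime] (K : Subgroup G) [K.Normal]
    (P : Sylow p G) : ¬ p ∣ (P : Subgroup G).relIndex K := by
  rw [← relIndex_sup_normal]
  exact fun h => P.not_dvd_index (h.trans (Subgroup.relIndex_dvd_index_of_le le_sup_left))

/-- The Sylow subgroup `P ∩ K` of a normal subgroup `K`. -/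
noncomputable def sylowInf [Finite G] {p : ℕ} [Fact p.Prime] (K : Subgroup G) [K.Normal]
    (P : Sylow p G) : Sylow p K :=
  (P.isPGroup'.comap_subtype (K := K)).toSylow (not_dvd_relIndex K P)

theorem coe_sylowInf [Finite G] {p : ℕ} [Fact p.Prime] (K : Subgroup G) [K.Normal]
    (P : Sylow p G) : ((sylowInf K P : Sylow p K) : Subgroup K) = (P : Subgroup G).subgroupOf K :=
  rfl

/-- `n_p(K) = [K : N_K(P ∩ K)]` for normal `K`. -/
theorem card_sylow_normal [Finite G] {p : ℕ} [Fact p.Prime] (K : Subgroup G) [K.Normal]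
    (P : Sylow p G) :
    Nat.card (Sylow p K) =
      (Subgroup.normalizer (((P : Subgroup G) ⊓ K : Subgroup G) : Set G)).relIndex K := by
  have h1 : Nat.card (Sylow p K) =
      (Subgroup.normalizer (((P : Subgroup G).subgroupOf K : Subgroup K) : Set K)).index :=
    (sylowInf K P).card_eq_index_normalizer
  rw [h1, ← Subgroup.inf_subgroupOf_right, ← Subgroup.subgroupOf_normalizer_eq inf_le_right]
  rfl

/-- `n_p(N) = [N : N_N(P)]` for a subgroup `N` containing `P`. -/
theorem card_sylow_subgroup [Finite G] {p : ℕ} [Fact p.Prime] (N : Subgroup G)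
    (P : Sylow p G) (hPN : (P : Subgroup G) ≤ N) :
    Nat.card (Sylow p N) = (Subgroup.normalizer ((P : Subgroup G) : Set G)).relIndex N := by
  have h1 : Nat.card (Sylow p N) =
      (Subgroup.normalizer (((P : Subgroup G).subgroupOf N : Subgroup N) : Set N)).index :=
    (P.subtype hPN).card_eq_index_normalizer
  rw [h1, ← Subgroup.subgroupOf_normalizer_eq hPN]
  rfl

/-- If `N = (A ∩ N)(K ∩ N)` with `K` normal then `[N : A ∩ N] = [K ∩ N : A ∩ K ∩ N]`. -/
theorem relIndex_eq_of_factor [Finite G] {A N : Subgroup G} (K : Subgroup G) [K.Normal]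
    (h : ∀ x ∈ N, ∃ u ∈ A ⊓ N, ∃ k ∈ K, x = u * k) : A.relIndex N = A.relIndex (K ⊓ N) := by
  have h1 := relIndex_sup_normal (A.subgroupOf N) (K.subgroupOf N)
  have h2 : A.subgroupOf N ⊔ K.subgroupOf N = ⊤ := by
    rw [eq_top_iff]
    rintro ⟨x, hx⟩ -
    obtain ⟨u, hu, k, hk, hxe⟩ := h x hx
    have hkN : k ∈ N := by
      have : k = u⁻¹ * x := by rw [hxe]; group
      rw [this]; exact N.mul_mem (N.inv_mem hu.2) hx
    have hx2 : (⟨x, hx⟩ : N) = ⟨u, hu.2⟩ * ⟨k, hkN⟩ := Subtype.ext hxe
    rw [hx2]
    exact Subgroup.mul_mem_sup (Subgroup.mem_subgroupOf.mpr hu.1) (Subgroup.mem_subgroupOf.mpr hk)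
  rw [h2, Subgroup.relIndex_top_right] at h1
  rw [← Subgroup.inf_subgroupOf_right K N, Subgroup.relIndex_subgroupOf inf_le_right] at h1
  exact h1

end Cfsg.Agent.Lib.Helper72
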